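import Mathlib
import Cfsg.Agent.H566.Glaub

/-!
# One automorphism of coprime order

`fix a` : the fixed points; `Fxd a n` : the conjugacy class of `n` is `a`-invariant.
-/

set_option autoImplicit false

namespace Cfsg.Agent.H532.Thr

open Subgroup

universe u v w

theorem solv_zpowers {G : Type*} [Group G] (g : G) : Group.IsSolvable (zpowers g) :=
  Group.isSolvable_of_comm (by
    rintro ⟨_, i, rfl⟩ ⟨_, j, rfl⟩
    exact Subtype.ext (by
      show g ^ i * g ^ j = g ^ j * g ^ i
      rw [← zpow_add, ← zpow_add, add_comm]))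

/-- **Glauberman's lemma** for one automorphism. -/
theorem glaub1 {H Y : Type*} [Group H] [Finite H] {m : ℕ} (hm : 0 < m) (hcop : m.Coprime (Nat.card H))
    (a : MulAut H) (ha : a ^ m = 1) (θ : Equiv.Perm Y) (hθ : θ ^ m = 1) (σ : H →* Equiv.Perm Y)
    (hcomp : ∀ h y, θ (σ h y) = σ (a h) (θ y)) (S : Set Y) (hne : S.Nonempty)
    (hρ : ∀ y ∈ S, θ y ∈ S) (hσ : ∀ h, ∀ y ∈ S, σ h y ∈ S) (htr : ∀ x ∈ S, ∀ y ∈ S, ∃ h, σ h x = y) :
    (∃ x ∈ S, θ x = x) ∧ ∀ x ∈ S, ∀ y ∈ S, θ x = x → θ y = y → ∃ h : H, a h = h ∧ σ h x = y := by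
  let g : MulAut H × Equiv.Perm Y := (a, θ)
  have hg : g ^ m = 1 := Prod.ext ha hθ
  let A := zpowers g
  have hfo : IsOfFinOrder g := isOfFinOrder_iff_pow_eq_one.2 ⟨m, hm, hg⟩
  have hfin : Finite A := hfo.finite_zpowers
  have hA : Nat.card A ∣ m := by
    show Nat.card (zpowers g) ∣ m
    rw [Nat.card_zpowers]
    exact orderOf_dvd_of_pow_eq_one hg
  have hpow : ∀ x : A, ∃ n : ℕ, (x : MulAut H × Equiv.Perm Y) = g ^ n := by
    intro x
    obtain ⟨n, hn⟩ := hfo.mem_powers_iff_mem_zpowers.2 x.2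
    exact ⟨n, hn.symm⟩
  obtain ⟨⟨x, hx, hfx⟩, h2⟩ := Cfsg.Agent.H566.glaub (A := A) (H := H) (Y := Y)
    (hcop.coprime_dvd_left hA) (Or.inl (solv_zpowers g))
    ((MonoidHom.fst _ _).comp A.subtype) ((MonoidHom.snd _ _).comp A.subtype) σ
    (by
      intro x h y
      obtain ⟨n, hn⟩ := hpow x
      show (x : MulAut H × Equiv.Perm Y).2 (σ h y) = σ ((x : MulAut H × Equiv.Perm Y).1 h) ((x : MulAut H × Equiv.Perm Y).2 y)
      rw [hn]
      show (θ ^ n) (σ h y) = σ ((a ^ n) h) ((θ ^ n) y)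
      clear hn
      induction n generalizing h y with
      | zero => rfl
      | succ n ih =>
        rw [pow_succ, pow_succ, Equiv.Perm.mul_apply, MulAut.mul_apply, Equiv.Perm.mul_apply, hcomp]
        exact ih _ _)
    S hne
    (by
      intro x y hy
      obtain ⟨n, hn⟩ := hpow x
      show (x : MulAut H × Equiv.Perm Y).2 y ∈ S
      rw [hn]
      show (θ ^ n) y ∈ S
      clear hn
      induction n generalizing y with
      | zero => exact hy
      | succ n ih =>
        rw [pow_succ, Equiv.Perm.mul_apply]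
        exact ih _ (hρ _ hy))
    hσ htr
  have hgA : g ∈ A := mem_zpowers g
  refine ⟨⟨x, hx, hfx ⟨g, hgA⟩⟩, ?_⟩
  intro x hx y hy hfx hfy
  have hall : ∀ z : Y, θ z = z → ∀ b : A, ((MonoidHom.snd _ _).comp A.subtype) b z = z := by
    intro z hz b
    obtain ⟨n, hn⟩ := hpow b
    show (b : MulAut H × Equiv.Perm Y).2 z = z
    rw [hn]
    show (θ ^ n) z = z
    clear hn
    induction n with
    | zero => rfl
    | succ n ih => rw [pow_succ, Equiv.Perm.mul_apply, hz, ih]
  obtain ⟨h, hh, e⟩ := h2 x hx y hy (hall x hfx) (hall y hfy)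
  exact ⟨h, hh ⟨g, hgA⟩, e⟩

/-! ### Fixed points -/

section Fix

variable {N : Type u} [Group N]

/-- the fixed points of an automorphism -/
def fix (a : MulAut N) : Subgroup N where
  carrier := {x | a x = x}
  mul_mem' := fun {x y} (hx : a x = x) (hy : a y = y) => by
    show a (x * y) = x * y
    rw [map_mul, hx, hy]
  one_mem' := map_one a
  inv_mem' := fun {x} (hx : a x = x) => by
    show a x⁻¹ = x⁻¹
    rw [map_inv, hx]

theorem mem_fix {a : MulAut N} {x : N} : x ∈ fix a ↔ a x = x := Iff.rfl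

/-- the class of `n` is invariant -/
def Fxd (a : MulAut N) (n : N) : Prop := IsConj n (a n)

/-- `a ^ m = 1`, `m` prime to the order of the group -/
structure Cop (a : MulAut N) (m : ℕ) : Prop where
  pos : 0 < m
  pow : a ^ m = 1
  cop : m.Coprime (Nat.card N)

/-- invariant subgroup -/
def Inv (a : MulAut N) (H : Subgroup N) : Prop := ∀ x, a x ∈ H ↔ x ∈ H

theorem Inv.of_le [Finite N] {a : MulAut N} {H : Subgroup N} (h : ∀ x ∈ H, a x ∈ H) : Inv a H := by
  intro x
  refine ⟨fun hx => ?_, h x⟩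
  have h1 : H.map a.toMonoidHom ≤ H := by
    rintro _ ⟨y, hy, rfl⟩
    exact h y hy
  have h2 : Nat.card (H.map a.toMonoidHom) = Nat.card H :=
    Nat.card_congr (H.equivMapOfInjective a.toMonoidHom a.injective).symm.toEquiv
  have h3 : H.map a.toMonoidHom = H := Subgroup.eq_of_le_of_card_ge h1 h2.ge
  rw [← h3] at hx
  obtain ⟨y, hy, e⟩ := hx
  have : y = x := a.injective e
  rwa [← this]

theorem Inv.inf {a : MulAut N} {H K : Subgroup N} (h : Inv a H) (k : Inv a K) : Inv a (H ⊓ K) := fun x => by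
  rw [Subgroup.mem_inf, Subgroup.mem_inf, h x, k x]

theorem inv_bot (a : MulAut N) : Inv a ⊥ := fun x => by
  rw [Subgroup.mem_bot, Subgroup.mem_bot, map_eq_one_iff a a.injective]

theorem inv_top (a : MulAut N) : Inv a ⊤ := fun x => by simp

theorem inv_fix {a b : MulAut N} (hab : ∀ x, a (b x) = b (a x)) : Inv b (fix a) := fun x => by
  rw [mem_fix, mem_fix, hab]
  exact b.injective.eq_iff

/-- restriction to an invariant subgroup -/
def res (a : MulAut N) (H : Subgroup N) (h : Inv a H) : MulAut ↥H where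
  toFun x := ⟨a x, (h x).2 x.2⟩
  invFun x := ⟨a⁻¹ x, (h _).1 (by rw [MulAut.apply_inv_self]; exact x.2)⟩
  left_inv x := Subtype.ext (MulAut.inv_apply_self _ _ _)
  right_inv x := Subtype.ext (MulAut.apply_inv_self _ _ _)
  map_mul' x y := Subtype.ext (map_mul a x.1 y.1)

theorem coe_res (a : MulAut N) (H : Subgroup N) (h : Inv a H) (x : ↥H) : ((res a H h x : ↥H) : N) = a x := rfl

theorem res_pow (a : MulAut N) (H : Subgroup N) (h : Inv a H) (n : ℕ) (x : ↥H) :
    (((res a H h) ^ n) x : N) = (a ^ n) x := by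
  induction n generalizing x with
  | zero => rfl
  | succ n ih => rw [pow_succ, pow_succ, MulAut.mul_apply, MulAut.mul_apply, ih, coe_res]

theorem Cop.res {a : MulAut N} {m : ℕ} (ha : Cop a m) {H : Subgroup N} (h : Inv a H) :
    Cop (res a H h) m where
  pos := ha.pos
  pow := by
    ext x
    rw [res_pow, ha.pow]; rfl
  cop := ha.cop.coprime_dvd_right (card_subgroup_dvd_card H)

/-- the automorphism of a quotient -/
def quo (a : MulAut N) (V : Subgroup N) [V.Normal] (h : Inv a V) : MulAut (N ⧸ V) :=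
  QuotientGroup.congr V V a (by
    ext x
    constructor
    · rintro ⟨y, hy, rfl⟩
      exact (h y).2 hy
    · intro hx
      refine ⟨a⁻¹ x, (h _).1 ?_, ?_⟩
      · rw [MulAut.apply_inv_self]; exact hx
      · exact MulAut.apply_inv_self _ _ _)

theorem quo_mk (a : MulAut N) (V : Subgroup N) [V.Normal] (h : Inv a V) (n : N) :
    quo a V h (n : N ⧸ V) = ((a n : N) : N ⧸ V) := rfl

theorem quo_pow (a : MulAut N) (V : Subgroup N) [V.Normal] (h : Inv a V) (k : ℕ) (n : N) :
    ((quo a V h) ^ k) (n : N ⧸ V) = (((a ^ k) n : N) : N ⧸ V) := by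
  induction k generalizing n with
  | zero => rfl
  | succ k ih => rw [pow_succ, pow_succ, MulAut.mul_apply, MulAut.mul_apply, quo_mk, ih]

theorem Cop.quo {a : MulAut N} {m : ℕ} (ha : Cop a m) {V : Subgroup N} [V.Normal] (h : Inv a V) :
    Cop (quo a V h) m where
  pos := ha.pos
  pow := by
    ext x
    obtain ⟨n, rfl⟩ := QuotientGroup.mk_surjective x
    rw [quo_pow, ha.pow]; rfl
  cop := ha.cop.coprime_dvd_right (card_quotient_dvd_card V)

theorem Fxd.quo {a : MulAut N} {n : N} (hn : Fxd a n) {V : Subgroup N} [V.Normal] (h : Inv a V) :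
    Fxd (quo a V h) (n : N ⧸ V) := by
  obtain ⟨g, hg⟩ := isConj_iff.1 hn
  refine isConj_iff.2 ⟨(g : N ⧸ V), ?_⟩
  rw [quo_mk, ← hg]; rfl

theorem fxd_of_conj_fix {a : MulAut N} {n g : N} (h : g * n * g⁻¹ ∈ fix a) : Fxd a n := by
  have h1 : a g * a n * (a g)⁻¹ = g * n * g⁻¹ := by
    have := mem_fix.1 h
    rwa [map_mul, map_mul, map_inv] at this
  refine isConj_iff.2 ⟨(a g)⁻¹ * g, ?_⟩
  have : (a g)⁻¹ * g * n * ((a g)⁻¹ * g)⁻¹ = (a g)⁻¹ * (g * n * g⁻¹) * a g := by group
  rw [this, ← h1]; group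

theorem Fxd.conj {a : MulAut N} {n : N} (h : Fxd a n) (g : N) : Fxd a (g * n * g⁻¹) := by
  have h1 : IsConj (g * n * g⁻¹) n := (isConj_iff.2 ⟨g, rfl⟩).symm
  have h2 : IsConj (a n) (a (g * n * g⁻¹)) := isConj_iff.2 ⟨a g, by rw [map_mul, map_mul, map_inv]⟩
  exact (h1.trans h).trans h2

/-- conjugation as a permutation -/
def conjPerm (N : Type u) [Group N] : N →* Equiv.Perm N where
  toFun g := (MulAut.conj g).toEquiv
  map_one' := by ext x; simp
  map_mul' g h := by ext x; simp [mul_assoc]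

theorem conjPerm_apply (g x : N) : conjPerm N g x = g * x * g⁻¹ := rfl

theorem toEquiv_pow (a : MulAut N) (n : ℕ) (x : N) : ((a.toEquiv : Equiv.Perm N) ^ n) x = (a ^ n) x := by
  induction n generalizing x with
  | zero => rfl
  | succ n ih =>
    rw [pow_succ, pow_succ, Equiv.Perm.mul_apply, MulAut.mul_apply, ih]
    rfl

variable [Finite N] {a : MulAut N} {m : ℕ}

theorem Cop.glaub_conj (ha : Cop a m) (n : N) (hn : Fxd a n) :
    (∃ x, IsConj n x ∧ a x = x) ∧ ∀ x y, IsConj n x → IsConj n y → a x = x → a y = y →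
      ∃ h : N, a h = h ∧ h * x * h⁻¹ = y := by
  obtain ⟨⟨x, hx, hfx⟩, h2⟩ := glaub1 ha.pos ha.cop a ha.pow (a.toEquiv : Equiv.Perm N)
    (by ext x; rw [toEquiv_pow, ha.pow]; rfl) (conjPerm N)
    (by
      intro h y
      show a (h * y * h⁻¹) = a h * a y * (a h)⁻¹
      rw [map_mul, map_mul, map_inv])
    {x | IsConj n x} ⟨n, IsConj.refl n⟩
    (by
      intro y hy
      obtain ⟨g, hg⟩ := isConj_iff.1 (show IsConj n y from hy)
      refine (show IsConj n (a n) from hn).trans (isConj_iff.2 ⟨a g, ?_⟩)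
      show a g * a n * (a g)⁻¹ = a y
      rw [← hg, map_mul, map_mul, map_inv])
    (by
      intro h y hy
      exact (show IsConj n y from hy).trans (isConj_iff.2 ⟨h, rfl⟩))
    (by
      intro x hx y hy
      obtain ⟨g, hg⟩ := isConj_iff.1 ((show IsConj n x from hx).symm.trans (show IsConj n y from hy))
      exact ⟨g, hg⟩)
  exact ⟨⟨x, hx, hfx⟩, fun x y hx hy hfx hfy => h2 x hx y hy hfx hfy⟩

theorem Cop.exists_conj_fix (ha : Cop a m) {n : N} (hn : Fxd a n) : ∃ g, g * n * g⁻¹ ∈ fix a := by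
  obtain ⟨⟨x, hx, hfx⟩, -⟩ := ha.glaub_conj n hn
  obtain ⟨g, hg⟩ := isConj_iff.1 hx
  exact ⟨g, by rw [hg]; exact hfx⟩

theorem Cop.exists_fix_conj (ha : Cop a m) {x y g : N} (hx : x ∈ fix a) (hy : y ∈ fix a)
    (hg : g * x * g⁻¹ = y) : ∃ c ∈ fix a, c * x * c⁻¹ = y := by
  have h1 : Fxd a x := by
    show IsConj x (a x)
    rw [mem_fix.1 hx]
  obtain ⟨-, h2⟩ := ha.glaub_conj x h1
  obtain ⟨c, hc, e⟩ := h2 x y (IsConj.refl x) (isConj_iff.2 ⟨g, hg⟩) hx hy
  exact ⟨c, hc, e⟩

/-- an invariant coset contains a fixed point -/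
theorem Cop.fixed_coset (ha : Cop a m) {H : Subgroup N} (hH : Inv a H) {g : N} (hg : g⁻¹ * a g ∈ H) :
    ∃ h ∈ H, g * h ∈ fix a := by
  obtain ⟨⟨x, hx, hfx⟩, -⟩ := glaub1 (H := ↥H) ha.pos (ha.res hH).cop (Thr.res a H hH) (ha.res hH).pow
    (a.toEquiv : Equiv.Perm N) (by ext x; rw [toEquiv_pow, ha.pow]; rfl)
    ({ toFun := fun h => Equiv.mulRight (h⁻¹ : ↥H).1
       map_one' := by ext x; simp
       map_mul' := fun a b => by ext x; simp [mul_assoc] } : ↥H →* Equiv.Perm N)
    (by
      intro h y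
      show a (y * (h⁻¹ : ↥H).1) = a y * ((Thr.res a H hH h)⁻¹ : ↥H).1
      rw [map_mul, ← map_inv, coe_res])
    {y | g⁻¹ * y ∈ H} ⟨g, by show g⁻¹ * g ∈ H; rw [inv_mul_cancel]; exact one_mem _⟩
    (by
      intro y hy
      show g⁻¹ * a y ∈ H
      have h1 : g⁻¹ * a y = (g⁻¹ * a g) * a (g⁻¹ * y) := by
        rw [map_mul, map_inv]; group
      rw [h1]
      exact mul_mem hg ((hH _).2 hy))
    (by
      intro h y hy
      show g⁻¹ * (y * (h⁻¹ : ↥H).1) ∈ H
      rw [← mul_assoc]
      exact mul_mem hy (h⁻¹).2)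
    (by
      intro x hx y hy
      refine ⟨⟨y⁻¹ * x, ?_⟩, ?_⟩
      · have : y⁻¹ * x = (g⁻¹ * y)⁻¹ * (g⁻¹ * x) := by group
        rw [this]
        exact mul_mem (inv_mem hy) hx
      · show x * (y⁻¹ * x)⁻¹ = y
        group)
  exact ⟨g⁻¹ * x, hx, by rw [mul_inv_cancel_left]; exact hfx⟩

end Fix

/-! ### Counting -/

section Count

open Finset in
/-- pairs `(n, g)` with `g⁻¹ n g ∈ H` -/
theorem sum_count {N : Type u} [Group N] [Fintype N] (H : Subgroup N) (Q : N → Prop) (hQ : ∀ g n, Q (g⁻¹ * n * g) ↔ Q n)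
    [DecidablePred (· ∈ H)] [DecidablePred Q] :
    ∑ n ∈ univ.filter Q, (univ.filter fun g : N => g⁻¹ * n * g ∈ H).card =
      Fintype.card N * (univ.filter fun n : N => n ∈ H ∧ Q n).card := by
  classical
  have h1 : ∀ n : N, (univ.filter fun g : N => g⁻¹ * n * g ∈ H).card = ∑ g : N, if g⁻¹ * n * g ∈ H then 1 else 0 := by
    intro n
    rw [Finset.card_filter]
  rw [Finset.sum_congr rfl fun n _ => h1 n, Finset.sum_comm]
  rw [Finset.sum_congr rfl (g := fun _ => (univ.filter fun n : N => n ∈ H ∧ Q n).card)]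
  · rw [Finset.sum_const, Finset.card_univ, smul_eq_mul]
  · intro g _
    rw [Finset.sum_filter, ← Finset.sum_filter_add_sum_filter_not univ (fun n : N => Q n ∧ g⁻¹ * n * g ∈ H)]
    rw [Finset.sum_congr rfl (g := fun _ => 1), Finset.sum_const, smul_eq_mul, mul_one]
    · rw [Finset.sum_eq_zero, add_zero]
      · refine Finset.card_bij (fun n _ => g⁻¹ * n * g) ?_ ?_ ?_
        · intro n hn
          rw [Finset.mem_filter] at hn ⊢
          exact ⟨Finset.mem_univ _, hn.2.2, (hQ g n).2 hn.2.1⟩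
        · intro n _ n' _ h
          exact mul_left_cancel (mul_right_cancel h)
        · intro n hn
          rw [Finset.mem_filter] at hn
          have e : g⁻¹ * (g * n * g⁻¹) * g = n := by group
          refine ⟨g * n * g⁻¹, ?_, e⟩
          rw [Finset.mem_filter]
          refine ⟨Finset.mem_univ _, ?_, ?_⟩
          · rw [← hQ g, e]; exact hn.2.2
          · rw [e]; exact hn.2.1
      · intro n hn
        rw [Finset.mem_filter] at hn
        have h2 := hn.2
        push Not at h2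
        by_cases hq : Q n
        · rw [if_pos hq, if_neg (h2 hq)]
        · rw [if_neg hq]
    · intro n hn
      rw [Finset.mem_filter] at hn
      rw [if_pos hn.2.1, if_pos hn.2.2]

/-- if `n` is conjugate into `H`, at least `|H|` elements conjugate it into `H` -/
theorem card_le_count {N : Type u} [Group N] [Fintype N] (H : Subgroup N) [DecidablePred (· ∈ H)] {n g₀ : N}
    (h : g₀⁻¹ * n * g₀ ∈ H) : Nat.card H ≤ (Finset.univ.filter fun g : N => g⁻¹ * n * g ∈ H).card := by
  classical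
  rw [Nat.card_eq_fintype_card, ← Finset.card_univ]
  refine Finset.card_le_card_of_injOn (fun h : H => g₀ * h) ?_ ?_
  · intro k _
    rw [Finset.mem_coe, Finset.mem_filter]
    refine ⟨Finset.mem_univ _, ?_⟩
    have : (g₀ * (k : N))⁻¹ * n * (g₀ * k) = (k : N)⁻¹ * (g₀⁻¹ * n * g₀) * k := by group
    rw [this]
    exact mul_mem (mul_mem (inv_mem k.2) h) k.2
  · intro k _ k' _ e
    exact Subtype.ext (mul_left_cancel e)

/-- a finite group is not the union of the conjugates of a proper subgroup -/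
theorem eq_top_of_cover {N : Type u} [Group N] [Finite N] (H : Subgroup N) (h : ∀ n : N, ∃ g, g * n * g⁻¹ ∈ H) :
    H = ⊤ := by
  classical
  have := Fintype.ofFinite N
  have h1 := sum_count H (fun _ => True) (by simp)
  have h2 : ∀ n : N, Nat.card H ≤ (Finset.univ.filter fun g : N => g⁻¹ * n * g ∈ H).card := by
    intro n
    obtain ⟨g, hg⟩ := h n
    exact card_le_count H (g₀ := g⁻¹) (by rwa [inv_inv])
  have h3 : (Finset.univ.filter fun g : N => g⁻¹ * 1 * g ∈ H).card = Fintype.card N := by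
    rw [Finset.filter_true_of_mem, Finset.card_univ]
    intro g _
    rw [mul_one, inv_mul_cancel]
    exact one_mem _
  have h4 : (Finset.univ.filter fun n : N => n ∈ H ∧ True).card = Nat.card H := by
    rw [Nat.card_eq_fintype_card, Fintype.card_subtype]
    simp
  rw [h4, Finset.filter_true, ← Finset.add_sum_erase _ _ (Finset.mem_univ (1 : N)), h3] at h1
  have h5 : (Fintype.card N - 1) * Nat.card H ≤
      ∑ n ∈ Finset.univ.erase (1 : N), (Finset.univ.filter fun g : N => g⁻¹ * n * g ∈ H).card := by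
    have := Finset.card_nsmul_le_sum (Finset.univ.erase (1 : N))
      (fun n => (Finset.univ.filter fun g : N => g⁻¹ * n * g ∈ H).card) (Nat.card H) (fun n _ => h2 n)
    rwa [Finset.card_erase_of_mem (Finset.mem_univ _), Finset.card_univ, smul_eq_mul] at this
  have h6 : 0 < Fintype.card N := Fintype.card_pos
  have h7 : Fintype.card N ≤ Nat.card H := by
    obtain ⟨k, hk⟩ : ∃ k, Fintype.card N = k + 1 := ⟨Fintype.card N - 1, by omega⟩
    rw [hk] at h1 h5 ⊢
    rw [Nat.add_sub_cancel] at h5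
    nlinarith
  apply Subgroup.eq_top_of_le_card
  rw [Nat.card_eq_fintype_card]
  exact h7

/-- the outside of a normal subgroup covered by the conjugates of `H` -/
theorem centralizer_le_of_cover {N : Type u} [Group N] [Finite N] (H Y : Subgroup N) [Y.Normal]
    (h : ∀ n : N, n ∉ Y → ∃ g, g * n * g⁻¹ ∈ H) {z g : N} (hz : z ∈ H) (hzY : z ∉ Y) (hg : g⁻¹ * z * g ∈ H) :
    g ∈ H := by
  classical
  have := Fintype.ofFinite N
  have hQ : ∀ g n : N, g⁻¹ * n * g ∉ Y ↔ n ∉ Y := by
    intro g n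
    rw [not_iff_not]
    constructor
    · intro h
      have := Subgroup.Normal.conj_mem ‹Y.Normal› _ h g
      have e : g * (g⁻¹ * n * g) * g⁻¹ = n := by group
      rwa [e] at this
    · intro h
      have := Subgroup.Normal.conj_mem ‹Y.Normal› _ h g⁻¹
      rwa [inv_inv] at this
  have h1 := sum_count H (fun n => n ∉ Y) hQ
  have h2 : ∀ n ∈ Finset.univ.filter (fun n : N => n ∉ Y),
      Nat.card H ≤ (Finset.univ.filter fun g : N => g⁻¹ * n * g ∈ H).card := by
    intro n hn
    obtain ⟨g, hg⟩ := h n (Finset.mem_filter.1 hn).2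
    exact card_le_count H (g₀ := g⁻¹) (by rwa [inv_inv])
  have hY : (Finset.univ.filter fun n : N => n ∉ Y).card + Nat.card Y = Nat.card N := by
    rw [Nat.card_eq_fintype_card, Nat.card_eq_fintype_card, Fintype.card_subtype, add_comm,
      Finset.card_filter_add_card_filter_not, Finset.card_univ]
  have hHY : (Finset.univ.filter fun n : N => n ∈ H ∧ n ∉ Y).card + Nat.card ↥(H ⊓ Y) = Nat.card H := by
    have e1 : Nat.card ↥(H ⊓ Y) = (Finset.univ.filter fun n : N => n ∈ H ∧ n ∈ Y).card := by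
      rw [Nat.card_eq_fintype_card, Fintype.card_subtype]
      congr 1
      ext x
      simp [Subgroup.mem_inf]
    have e2 : Nat.card H = (Finset.univ.filter fun n : N => n ∈ H).card := by
      rw [Nat.card_eq_fintype_card, Fintype.card_subtype]
    rw [e1, e2, add_comm, ← Finset.card_filter_add_card_filter_not (s := Finset.univ.filter fun n : N => n ∈ H)
      (fun n => n ∈ Y), Finset.filter_filter, Finset.filter_filter]
  -- `|N| |H ∩ Y| ≥ |Y| |H|`
  have h3 : Nat.card Y * Nat.card H ≤ Nat.card N * Nat.card ↥(H ⊓ Y) := by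
    have e1 : (H ⊓ Y).relIndex Y ≤ H.relIndex ⊤ := by
      rw [Subgroup.inf_relIndex_right]
      exact Subgroup.relIndex_le_of_le_right le_top (by
        rw [Subgroup.relIndex_top_right]; exact Subgroup.index_ne_zero_of_finite)
    have e2 : Nat.card ↥(H ⊓ Y) * (H ⊓ Y).relIndex Y = Nat.card Y := by
      have := ((H ⊓ Y).subgroupOf Y).card_mul_index
      rwa [Nat.card_congr (Subgroup.subgroupOfEquivOfLe (inf_le_right : H ⊓ Y ≤ Y)).toEquiv] at this
    have e3 := H.card_mul_index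
    rw [Subgroup.relIndex_top_right] at e1
    rw [← e2, ← e3]
    calc Nat.card ↥(H ⊓ Y) * (H ⊓ Y).relIndex Y * Nat.card H
        ≤ Nat.card ↥(H ⊓ Y) * H.index * Nat.card H := by gcongr
      _ = Nat.card H * H.index * Nat.card ↥(H ⊓ Y) := by ring
  have h5 := Finset.sum_le_sum h2
  rw [Finset.sum_const, smul_eq_mul, h1, ← Nat.card_eq_fintype_card] at h5
  -- all terms are equal
  have h6 : ∑ n ∈ Finset.univ.filter (fun n : N => n ∉ Y), Nat.card H =
      ∑ n ∈ Finset.univ.filter (fun n : N => n ∉ Y), (Finset.univ.filter fun g : N => g⁻¹ * n * g ∈ H).card := by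
    apply le_antisymm (Finset.sum_le_sum h2)
    rw [h1, Finset.sum_const, smul_eq_mul, ← Nat.card_eq_fintype_card]
    nlinarith
  have h7 := (Finset.sum_eq_sum_iff_of_le h2).1 h6 z (Finset.mem_filter.2 ⟨Finset.mem_univ _, hzY⟩)
  have h8 : (H : Set N).toFinset ⊆ Finset.univ.filter fun g : N => g⁻¹ * z * g ∈ H := by
    intro k hk
    rw [Set.mem_toFinset, SetLike.mem_coe] at hk
    rw [Finset.mem_filter]
    exact ⟨Finset.mem_univ _, mul_mem (mul_mem (inv_mem hk) hz) hk⟩
  have h9 : (H : Set N).toFinset = Finset.univ.filter fun g : N => g⁻¹ * z * g ∈ H := by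
    apply Finset.eq_of_subset_of_card_le h8
    rw [← h7, Set.toFinset_card, Nat.card_eq_fintype_card]
    exact le_of_eq rfl
  have h10 : g ∈ (H : Set N).toFinset := by
    rw [h9, Finset.mem_filter]
    exact ⟨Finset.mem_univ _, hg⟩
  rw [Set.mem_toFinset] at h10
  exact h10

end Count

end Cfsg.Agent.H532.Thr
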