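import Mathlib
import Cfsg.Agent.H177.ThrZsel
import Cfsg.Agent.H529.BlinA
import Cfsg.Agent.H531.BlinB

/-!
# The linear theorem: assembly
-/

set_option autoImplicit false

namespace Cfsg.Agent.H532.Thr

open Subgroup

theorem blin {t a q : ℕ} [ht : Fact t.Prime] (hq : q.Prime) {V : Type*} [AddCommGroup V] [Module (ZMod t) V] [Finite V]
    (hV : Nat.card V = t ^ a) (L : Subgroup (V ≃ₗ[ZMod t] V)) (s : V ≃ₗ[ZMod t] V) (hs : s ^ q = 1)
    (hn : ∀ l ∈ L, s * l * s⁻¹ ∈ L) (hqL : ¬ q ∣ Nat.card L) (hqt : q ≠ t)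
    (S1 : Nat.card V - 1 = (centralizer {s}).relIndex L * (Nat.card {v : V // s v = v} - 1))
    (hne : ∃ l ∈ L, s * l ≠ l * s)
    (hF : (∀ f : ℕ, f.Prime → f ∣ (centralizer {s}).relIndex L → q ∣ f - 1) →
      Group.IsSolvable ↥(closure {x | ∃ l ∈ L, x = s * l * s⁻¹ * l⁻¹}))
    (z : V ≃ₗ[ZMod t] V) (hz : z ∈ L) (hsz : s * z = z * s) (hC : ∀ g ∈ L, g * z = z * g → s * g = g * s) : False := by
  have hfin : Finite (V ≃ₗ[ZMod t] V) := DFunLike.finite _
  -- fixed points
  let W : AddSubgroup V :=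
    { carrier := {v | s v = v}
      add_mem' := fun {x y} (hx : s x = x) (hy : s y = y) => by
        show s (x + y) = x + y
        rw [map_add, hx, hy]
      zero_mem' := map_zero s
      neg_mem' := fun {x} (hx : s x = x) => by
        show s (-x) = -x
        rw [map_neg, hx] }
  have hWc : Nat.card {v : V // s v = v} = Nat.card W := rfl
  have hWd : Nat.card W ∣ t ^ a := by
    rw [← hV]
    exact AddSubgroup.card_addSubgroup_dvd_card W
  obtain ⟨b, hba, hb⟩ := (Nat.dvd_prime_pow ht.out).1 hWd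
  have hs1 : s ≠ 1 := by
    rintro rfl
    obtain ⟨l, -, hl⟩ := hne
    exact hl (by rw [one_mul, mul_one])
  have ht2 := ht.out.two_le
  have hab : b < a := by
    rcases lt_or_eq_of_le hba with h | h
    · exact h
    · exfalso
      apply hs1
      have h1 : W = ⊤ := by
        apply AddSubgroup.eq_top_of_le_card
        rw [hb, hV, h]
      ext v
      have h2 : v ∈ W := by rw [h1]; exact AddSubgroup.mem_top v
      exact h2
  have ha : 0 < a := by omega
  rw [hWc, hb, hV] at S1
  have hta : 1 < t ^ a := Nat.one_lt_pow ha.ne' (by omega)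
  have hb0 : 0 < b := by
    rcases Nat.eq_zero_or_pos b with h | h
    · rw [h, pow_zero, Nat.sub_self, mul_zero] at S1
      omega
    · exact h
  have htb : 1 < t ^ b := Nat.one_lt_pow hb0.ne' (by omega)
  have hqn : ¬ q ∣ (centralizer {s}).relIndex L := fun h => hqL (h.trans (by
    rw [Subgroup.relIndex]
    exact Subgroup.index_dvd_card _))
  -- the automorphism of `L`
  let sL : MulAut L :=
    { toFun := fun x => ⟨s * x * s⁻¹, hn x x.2⟩
      invFun := fun x => ⟨s⁻¹ * x * s, by
        have h1 : ∀ k : ℕ, s ^ k * (x : V ≃ₗ[ZMod t] V) * (s ^ k)⁻¹ ∈ L := by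
          intro k
          induction k with
          | zero => simp
          | succ k ih =>
            have := hn _ ih
            have e : s ^ (k + 1) * (x : V ≃ₗ[ZMod t] V) * (s ^ (k + 1))⁻¹ =
              s * (s ^ k * (x : V ≃ₗ[ZMod t] V) * (s ^ k)⁻¹) * s⁻¹ := by
              rw [pow_succ']; group
            rw [e]
            exact this
        have h2 : s ^ (q - 1) = s⁻¹ := by
          apply eq_inv_of_mul_eq_one_left
          rw [← pow_succ, Nat.sub_add_cancel hq.one_le, hs]
        have h3 := h1 (q - 1)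
        rw [h2, inv_inv] at h3
        exact h3⟩
      left_inv := fun x => Subtype.ext (by
        show s⁻¹ * (s * x * s⁻¹) * s = x
        group)
      right_inv := fun x => Subtype.ext (by
        show s * (s⁻¹ * x * s) * s⁻¹ = x
        group)
      map_mul' := fun x y => Subtype.ext (by
        show s * (x * y : V ≃ₗ[ZMod t] V) * s⁻¹ = s * x * s⁻¹ * (s * y * s⁻¹)
        group) }
  have hsLk : ∀ (k : ℕ) (x : L), ((sL ^ k) x : V ≃ₗ[ZMod t] V) = s ^ k * x * (s ^ k)⁻¹ := by
    intro k
    induction k with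
    | zero =>
      intro x
      rw [pow_zero, pow_zero, one_mul, inv_one, mul_one]; rfl
    | succ k ih =>
      intro x
      rw [pow_succ, MulAut.mul_apply, ih, pow_succ]
      show s ^ k * (s * x * s⁻¹) * (s ^ k)⁻¹ = _
      group
  have hsLq : sL ^ q = 1 := by
    refine MulEquiv.ext fun x => Subtype.ext ?_
    rw [hsLk, hs, one_mul, inv_one, mul_one]
    rfl
  have hfix : fix sL = (centralizer {s}).subgroupOf L := by
    ext x
    rw [mem_fix, Subgroup.mem_subgroupOf, Subgroup.mem_centralizer_singleton_iff]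
    constructor
    · intro h
      have h1 : s * x * s⁻¹ = x := congrArg Subtype.val h
      exact (mul_inv_eq_iff_eq_mul.1 h1).symm
    · intro h
      apply Subtype.ext
      show s * x * s⁻¹ = x
      rw [← h, mul_inv_cancel_right]
  have hidx : (fix sL).index = (centralizer {s}).relIndex L := by rw [hfix]; rfl
  obtain ⟨l, hl, h1, h2, h3⟩ := H177.ThrNum.za (n := (centralizer {s}).relIndex L) ht.out hq hqt hb0 hab S1 hqn
    (fun f e hf h1 h2 => H177.ThrNum.pp hq sL hsLq hqL f e hf (by rwa [hidx]) (by rwa [hidx]))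
  obtain ⟨x, hx, hsx, hxl, hx1⟩ := H177.ThrNum.zsel hl ha h2 h3 hV L s hq.pos hs hn
    ((Nat.Prime.coprime_iff_not_dvd hq).2 hqL)
  have hx2 := hx1 1 (by rw [pow_one]; exact h1)
  rw [pow_one] at hx2
  have : Fact l.Prime := ⟨hl⟩
  have hxo : orderOf x = l := orderOf_eq_prime hxl hx2.1
  have hfixv : ∃ v : V, v ≠ 0 ∧ s v = v := by
    have h4 : 1 < Nat.card W := by rw [hb]; exact htb
    have h5 : Nontrivial W := Finite.one_lt_card_iff_nontrivial.1 h4
    obtain ⟨⟨v, hv⟩, hv1⟩ := exists_ne (0 : W)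
    exact ⟨v, fun h => hv1 (Subtype.ext h), hv⟩
  have S1' : Nat.card V - 1 = (centralizer {s}).relIndex L * (Nat.card {v : V // s v = v} - 1) := by
    rw [hWc, hb, hV]
    exact S1
  exact H531.BlinB.blinB hq hl hV ha h2 h3 L s hs hn hqL hqt S1' hfixv x hx hxo hsx hx2.2
    (H529.BlinA.blinA hq hl hV ha h2 h3 L s hs hn hqL hqt S1' hfixv x hx hxo hsx hx2.2 hF) z hz hsz hC

end Cfsg.Agent.H532.Thr
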