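import Mathlib
import Cfsg.Agent.H532.Thr.Lin
import Cfsg.Agent.H746.PrimV1

/-!
# Elements of primitive prime order
-/

set_option autoImplicit false

namespace Cfsg.Agent.H532.Thr

open Subgroup

universe u v w

/-- Lemma A -/
theorem lemmaA {X : Type*} [Group X] {s g x : X} (hs : s * x * s⁻¹ ∈ zpowers x) (hg : g * x * g⁻¹ = s * x * s⁻¹)
    {m n : ℕ} (hsm : s ^ m = 1) (hgn : g ^ n = 1) (hmn : m.Coprime n) : s * x = x * s := by
  have hz : ∀ y ∈ zpowers x, g * y * g⁻¹ = s * y * s⁻¹ ∧ s * y * s⁻¹ ∈ zpowers x := by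
    rintro _ ⟨j, rfl⟩
    show g * x ^ j * g⁻¹ = s * x ^ j * s⁻¹ ∧ s * x ^ j * s⁻¹ ∈ zpowers x
    rw [← conj_zpow, ← conj_zpow, hg]
    exact ⟨rfl, zpow_mem hs j⟩
  have h1 : ∀ j : ℕ, g ^ j * x * (g ^ j)⁻¹ = s ^ j * x * (s ^ j)⁻¹ ∧ s ^ j * x * (s ^ j)⁻¹ ∈ zpowers x := by
    intro j
    induction j with
    | zero => simp
    | succ j ih =>
      have e1 : ∀ h : X, h ^ (j + 1) * x * (h ^ (j + 1))⁻¹ = h * (h ^ j * x * (h ^ j)⁻¹) * h⁻¹ := by
        intro h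
        rw [pow_succ']; group
      rw [e1, e1, ih.1]
      exact hz _ ih.2
  have h2 := (h1 n).1
  rw [hgn, one_mul, inv_one, mul_one] at h2
  have h3 : s ^ n * x = x * s ^ n := by
    rw [eq_mul_inv_iff_mul_eq] at h2
    exact h2.symm
  obtain ⟨i, hi⟩ : ∃ i : ℤ, s = (s ^ n) ^ i := by
    have h4 := Nat.gcd_eq_gcd_ab m n
    rw [Nat.Coprime] at hmn
    rw [hmn] at h4
    refine ⟨Nat.gcdB m n, ?_⟩
    have h5 : s ^ (1 : ℤ) = s ^ ((m : ℤ) * Nat.gcdA m n + n * Nat.gcdB m n) := by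
      rw [← h4]; rfl
    rw [zpow_one, zpow_add, zpow_mul, zpow_mul, zpow_natCast, zpow_natCast, hsm, one_zpow, one_mul] at h5
    exact h5
  have h6 : Commute (s ^ n) x := h3
  rw [hi]
  exact (h6.zpow_left i).eq

section Pair

variable {L : Type u} {V : Type v} [Group L] [CommGroup V] [MulDistribMulAction L V]

theorem compat_pow (cL : MulAut L) (cV : MulAut V) (hc : ∀ (l : L) (v : V), cV (l • v) = cL l • cV v) (k : ℕ)
    (l : L) (v : V) : (cV ^ k) (l • v) = (cL ^ k) l • (cV ^ k) v := by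
  induction k generalizing l v with
  | zero => rfl
  | succ k ih => rw [pow_succ, pow_succ, MulAut.mul_apply, MulAut.mul_apply, MulAut.mul_apply, hc, ih]

theorem zsg'' [Finite L] [Finite V] {t a l m : ℕ} [Fact t.Prime] [Module (ZMod t) (Additive V)] (hl : l.Prime)
    (ha : 0 < a) (hdvd : l ∣ t ^ a - 1) (hprim : ∀ i, 0 < i → i < a → ¬ l ∣ t ^ i - 1) (hV : Nat.card V = t ^ a)
    (cL : MulAut L) (cV : MulAut V) (hc : ∀ (l : L) (v : V), cV (l • v) = cL l • cV v) (hcL : Cop cL m)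
    (hcV : cV ^ m = 1) :
    ∃ x : L, ∀ k : ℕ, l ∣ (fix (cL ^ k)).index → (∀ l : L, (∀ v : V, l • v = v) → (cL ^ k) l = l) →
      ¬ Fxd (cL ^ k) x ∧ (∃ v : V, x • v ≠ v) ∧
      ∀ g : MulAut V, (∀ v, g (x • v) = x • g v) → ∀ v, v ≠ 1 → g v = v → g = 1 := by
  obtain ⟨_, ⟨x, rfl⟩, h1, h2, h3⟩ := H177.ThrNum.zsel (t := t) (a := a) (l := l) (m := m) hl ha hdvd hprim (V := Additive V)
    (by rw [← hV]; rfl) (rho t : L →* _).range (toLin t cV) hcL.pos (by rw [← map_pow, hcV, map_one])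
    (by
      rintro _ ⟨g, rfl⟩
      rw [rho_conj t cL cV hc]
      exact ⟨_, rfl⟩)
    (hcL.cop.coprime_dvd_right (Subgroup.card_range_dvd _))
  refine ⟨x, ?_⟩
  intro k hk hker
  have hck := compat_pow cL cV hc k
  have hcop : Cop (cL ^ k) m := ⟨hcL.pos, by rw [← pow_mul, mul_comm, pow_mul, hcL.pow, one_pow], hcL.cop⟩
  have hpow : toLin t (cV ^ k) = (toLin t cV) ^ k := map_pow _ _ _
  obtain ⟨h4, h5⟩ := h3 k (by
    rw [← hpow, relIndex_range t (cL ^ k) (cV ^ k) hck hcop hker]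
    exact hk)
  have hx1 : ∃ v : V, x • v ≠ v := by
    by_contra hcon
    push Not at hcon
    apply h4
    have := (rho_eq_iff t x 1).2 (fun v => by rw [hcon, one_smul])
    rw [this, map_one]
  refine ⟨?_, hx1, ?_⟩
  · intro hf
    obtain ⟨g, hg⟩ := isConj_iff.1 hf
    apply h5
    rw [← hpow]
    have e1 : toLin t (cV ^ k) * rho t x * (toLin t (cV ^ k))⁻¹ = rho t ((cL ^ k) x) := rho_conj t (cL ^ k) (cV ^ k) hck x
    refine lemmaA (g := rho t g) (m := m) (n := Nat.card L) ?_ ?_ ?_ ?_ hcL.cop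
    · rw [hpow]
      clear hk hker hck hcop hpow h4 h5 hf hg e1 h3
      induction k with
      | zero => rw [pow_zero, one_mul, inv_one, mul_one]; exact mem_zpowers _
      | succ k ih =>
        obtain ⟨j, hj⟩ := ih
        have hj' : rho t x ^ j = toLin t cV ^ k * rho t x * (toLin t cV ^ k)⁻¹ := hj
        have e : toLin t cV ^ (k + 1) * rho t x * (toLin t cV ^ (k + 1))⁻¹ =
            toLin t cV * (toLin t cV ^ k * rho t x * (toLin t cV ^ k)⁻¹) * (toLin t cV)⁻¹ := by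
          rw [pow_succ']; group
        rw [e, ← hj', ← conj_zpow]
        exact zpow_mem h1 j
    · rw [e1, ← hg, map_mul, map_mul, map_inv]
    · rw [← map_pow, ← pow_mul, mul_comm, pow_mul, hcV, one_pow, map_one]
    · rw [← map_pow, pow_card_eq_one', map_one]
  · intro g hg v hv hgv
    have : Fact l.Prime := ⟨hl⟩
    have ho : orderOf (rho t x : Additive V ≃ₗ[ZMod t] Additive V) = l := orderOf_eq_prime h2 h4
    obtain ⟨h6, -⟩ := Cfsg.Agent.H746.PrimElem.v1 (t := t) (a := a) hl ha hdvd hprim (V := Additive V) (by rw [← hV]; rfl)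
      (rho t x) ho
    have h7 := h6 (toLin t g) (by
      ext y
      exact congrArg Additive.ofMul (hg y.toMul)) (Additive.ofMul v) (fun h => hv h) (congrArg Additive.ofMul hgv)
    exact toLin_injective t (by rw [h7, map_one])

theorem zsg [Finite L] [Finite V] {t a l m : ℕ} (ht : t.Prime) (hexp : ∀ v : V, v ^ t = 1) (hl : l.Prime)
    (ha : 0 < a) (hdvd : l ∣ t ^ a - 1) (hprim : ∀ i, 0 < i → i < a → ¬ l ∣ t ^ i - 1) (hV : Nat.card V = t ^ a)
    (cL : MulAut L) (cV : MulAut V) (hc : ∀ (l : L) (v : V), cV (l • v) = cL l • cV v) (hcL : Cop cL m)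
    (hcV : cV ^ m = 1) :
    ∃ x : L, ∀ k : ℕ, l ∣ (fix (cL ^ k)).index → (∀ l : L, (∀ v : V, l • v = v) → (cL ^ k) l = l) →
      ¬ Fxd (cL ^ k) x ∧ (∃ v : V, x • v ≠ v) ∧
      ∀ g : MulAut V, (∀ v, g (x • v) = x • g v) → ∀ v, v ≠ 1 → g v = v → g = 1 := by
  have : Fact t.Prime := ⟨ht⟩
  let _ := modl hexp
  exact zsg'' hl ha hdvd hprim hV cL cV hc hcL hcV

omit [MulDistribMulAction L V] in
/-- the primitive prime -/
theorem exists_ell [Finite L] [Finite V] {t q : ℕ} (ht : t.Prime) (hexp : ∀ v : V, v ^ t = 1) (hq : q.Prime)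
    (bL : MulAut L) (bV : MulAut V) (hbL : bL ^ q = 1) (hqL : ¬ q ∣ Nat.card L) (hqV : ¬ q ∣ Nat.card V)
    (hV1 : 1 < Nat.card V) (S1 : Nat.card V - 1 = (fix bL).index * (Nat.card (fix bV) - 1)) (hne : bL ≠ 1) :
    ∃ a b l : ℕ, Nat.card V = t ^ a ∧ Nat.card (fix bV) = t ^ b ∧ 0 < b ∧ b < a ∧ l.Prime ∧ l ∣ t ^ a - 1 ∧
      (∀ i, 0 < i → i < a → ¬ l ∣ t ^ i - 1) ∧ l ∣ (fix bL).index := by
  have hPt : IsPGroup t V := fun v => ⟨1, by rw [pow_one]; exact hexp v⟩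
  have : Fact t.Prime := ⟨ht⟩
  obtain ⟨a, ha⟩ := IsPGroup.iff_card.1 hPt
  obtain ⟨b, hb⟩ := IsPGroup.iff_card.1 (hPt.to_subgroup (fix bV))
  have ht1 := ht.one_lt
  have hb0 : 0 < b := by
    rcases Nat.eq_zero_or_pos b with rfl | h
    · rw [hb, pow_zero, Nat.sub_self, mul_zero] at S1
      omega
    · exact h
  have hle : b ≤ a := by
    have := Subgroup.card_subgroup_dvd_card (fix bV)
    rw [ha, hb] at this
    exact (Nat.pow_dvd_pow_iff_le_right ht1).1 this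
  have hlt : b < a := by
    rcases Nat.lt_or_eq_of_le hle with h | rfl
    · exact h
    · exfalso
      rw [hb, ha] at S1
      have h1 : 0 < t ^ b - 1 := by rw [ha] at hV1; omega
      have h2 : (fix bL).index = 1 := by
        have h3 : 1 * (t ^ b - 1) = (fix bL).index * (t ^ b - 1) := by rw [one_mul]; exact S1
        exact (Nat.eq_of_mul_eq_mul_right h1 h3).symm
      apply hne
      rw [Subgroup.index_eq_one] at h2
      ext x
      have : x ∈ fix bL := by rw [h2]; exact mem_top _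
      exact this
  have hqt : q ≠ t := by
    rintro rfl
    apply hqV
    rw [ha]
    exact dvd_pow_self _ (by omega)
  obtain ⟨l, hl, h1, h2, h3⟩ := H177.ThrNum.za (t := t) (a := a) (b := b) (q := q) (n := (fix bL).index) ht hq hqt hb0 hlt
    (by rw [← ha, ← hb]; exact S1) (fun h => hqL (h.trans (Subgroup.index_dvd_card _)))
    (fun f e hf h1 h2 => H177.ThrNum.pp hq bL hbL hqL f e hf h1 h2)
  exact ⟨a, b, l, ha, hb, hb0, hlt, hl, h2, h3, h1⟩

/-- one spread -/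
theorem zs1 [Finite L] [Finite V] {t q : ℕ} (ht : t.Prime) (hexp : ∀ v : V, v ^ t = 1) (hq : q.Prime)
    (bL : MulAut L) (bV : MulAut V) (hbL : bL ^ q = 1) (hbV : bV ^ q = 1)
    (hc : ∀ (l : L) (v : V), bV (l • v) = bL l • bV v) (hqL : ¬ q ∣ Nat.card L) (hqV : ¬ q ∣ Nat.card V)
    (hV1 : 1 < Nat.card V) (S1 : Nat.card V - 1 = (fix bL).index * (Nat.card (fix bV) - 1))
    (S2 : ∀ (l : L) (v : V), v ≠ 1 → bV v = v → bV (l • v) = l • v → bL l = l) (hne : bL ≠ 1) :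
    ∃ x : L, ¬ Fxd bL x ∧ (∃ v : V, x • v ≠ v) ∧
      ∀ g : MulAut V, (∀ v, g (x • v) = x • g v) → ∀ v, v ≠ 1 → g v = v → g = 1 := by
  obtain ⟨a, b, l, ha, hb, hb0, hlt, hl, h1, h2, h3⟩ := exists_ell ht hexp hq bL bV hbL hqL hqV hV1 S1 hne
  obtain ⟨x, hx⟩ := zsg ht hexp hl (by omega) h1 h2 ha bL bV hc
    (⟨hq.pos, hbL, (Nat.Prime.coprime_iff_not_dvd hq).2 hqL⟩ : Cop bL q) hbV
  have h4 := hx 1 (by rw [pow_one]; exact h3) (fun l hl => by
    rw [pow_one]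
    exact ker_fix bL bV S1 hV1 S2 hl)
  rw [pow_one] at h4
  exact ⟨x, h4⟩

theorem exists_pow_eq {X : Type*} [Group X] {a b : X} (hab : Commute a b) {p q : ℕ} (hpq : p.Coprime q)
    (ha : a ^ p = 1) (hb : b ^ q = 1) : ∃ k : ℕ, (a * b) ^ k = a := by
  obtain ⟨k, hk1, hk2⟩ := Nat.chineseRemainder hpq 1 0
  refine ⟨k, ?_⟩
  rw [hab.mul_pow]
  have h1 : a ^ k = a := by
    have := pow_eq_pow_iff_modEq (x := a) (m := k) (n := 1)
    rw [pow_one] at this
    exact (this.2 (Nat.ModEq.symm (hk1.of_dvd (orderOf_dvd_of_pow_eq_one ha)))).symm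
  have h2 : b ^ k = 1 := by
    have := pow_eq_pow_iff_modEq (x := b) (m := k) (n := 0)
    rw [pow_zero] at this
    exact (this.2 (Nat.ModEq.symm (hk2.of_dvd (orderOf_dvd_of_pow_eq_one hb)))).symm
  rw [h1, h2, mul_one]

/-- two spreads -/
theorem zs2 [Finite L] [Finite V] {t p q : ℕ} (ht : t.Prime) (hexp : ∀ v : V, v ^ t = 1) (hp : p.Prime) (hq : q.Prime)
    (hpq : p ≠ q) (aL : MulAut L) (aV : MulAut V) (haL : aL ^ p = 1) (haV : aV ^ p = 1)
    (hca : ∀ (l : L) (v : V), aV (l • v) = aL l • aV v) (hpL : ¬ p ∣ Nat.card L) (hpV : ¬ p ∣ Nat.card V)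
    (bL : MulAut L) (bV : MulAut V) (hbL : bL ^ q = 1) (hbV : bV ^ q = 1)
    (hcb : ∀ (l : L) (v : V), bV (l • v) = bL l • bV v) (hqL : ¬ q ∣ Nat.card L) (hqV : ¬ q ∣ Nat.card V)
    (habL : Commute aL bL) (habV : Commute aV bV)
    (hV1 : 1 < Nat.card V) (Sa1 : Nat.card V - 1 = (fix aL).index * (Nat.card (fix aV) - 1))
    (Sa2 : ∀ (l : L) (v : V), v ≠ 1 → aV v = v → aV (l • v) = l • v → aL l = l) (hnea : aL ≠ 1)
    (Sb1 : Nat.card V - 1 = (fix bL).index * (Nat.card (fix bV) - 1))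
    (Sb2 : ∀ (l : L) (v : V), v ≠ 1 → bV v = v → bV (l • v) = l • v → bL l = l) (hneb : bL ≠ 1) :
    ∃ x : L, ¬ Fxd aL x ∧ ¬ Fxd bL x := by
  obtain ⟨a, b, l, ha, hb, hb0, hlt, hl, h1, h2, h3⟩ := exists_ell ht hexp hq bL bV hbL hqL hqV hV1 Sb1 hneb
  obtain ⟨a', b', -, ha', hb', hb0', hlt', -, -, -, -⟩ := exists_ell ht hexp hp aL aV haL hpL hpV hV1 Sa1 hnea
  have haa : a' = a := Nat.pow_right_injective ht.two_le (by
    show t ^ a' = t ^ a
    rw [← ha, ← ha'])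
  subst haa
  have h4 : l ∣ (fix aL).index := by
    rw [ha, hb'] at Sa1
    have h5 := h1
    rw [Sa1] at h5
    exact ((Nat.Prime.dvd_mul hl).1 h5).resolve_right (h2 b' hb0' hlt')
  have hcopq : p.Coprime q := (Nat.coprime_primes hp hq).2 hpq
  obtain ⟨x, hx⟩ := zsg ht hexp hl (by omega) h1 h2 ha (aL * bL) (aV * bV)
    (fun l v => by
      show aV (bV (l • v)) = aL (bL l) • aV (bV v)
      rw [hcb, hca])
    (⟨Nat.mul_pos hp.pos hq.pos, by rw [habL.mul_pow, pow_mul, haL, one_pow, mul_comm p q, pow_mul, hbL, one_pow, one_mul],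
      Nat.Coprime.mul_left ((Nat.Prime.coprime_iff_not_dvd hp).2 hpL) ((Nat.Prime.coprime_iff_not_dvd hq).2 hqL)⟩ :
      Cop (aL * bL) (p * q))
    (by rw [habV.mul_pow, pow_mul, haV, one_pow, mul_comm p q, pow_mul, hbV, one_pow, one_mul])
  obtain ⟨k, hk⟩ := exists_pow_eq habL hcopq haL hbL
  obtain ⟨k', hk'⟩ := exists_pow_eq habL.symm hcopq.symm hbL haL
  rw [← habL.eq] at hk'
  have e1 := hx k (by rw [hk]; exact h4) (fun l hl => by rw [hk]; exact ker_fix aL aV Sa1 hV1 Sa2 hl)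
  have e2 := hx k' (by rw [hk']; exact h3) (fun l hl => by rw [hk']; exact ker_fix bL bV Sb1 hV1 Sb2 hl)
  rw [hk] at e1
  rw [hk'] at e2
  exact ⟨x, e1.1, e2.1⟩

end Pair

end Cfsg.Agent.H532.Thr
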