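import Cfsg.Agent.H531.LemX
import Cfsg.Agent.H532.Thr.Com

/-!
# The facts on simple groups used for Theorems B and C
-/

set_option autoImplicit false

namespace Cfsg.Agent.H532.Thr

universe u

/-- facts on the simple groups -/
structure Hyp : Prop where
  fm : ∀ (K : Type u) [Group K] [Finite K] [IsSimpleGroup K], ¬ (∀ x y : K, x * y = y * x) → Cfsg.Agent.H531.FM K
  f5 : ∀ (L : Type u) [Group L] [Finite L] (q : ℕ), q.Prime → ∀ b : MulAut L, b ^ q = 1 → ¬ q ∣ Nat.card L →
    (∀ f : ℕ, f.Prime → f ∣ (fix b).index → q ∣ f - 1) → Group.IsSolvable ↥(com b)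

end Cfsg.Agent.H532.Thr
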