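import Mathlib
import Cfsg.Agent.H532.Thr.Bas
import Cfsg.Agent.H532.Thr.Hyp

/-!
# Theorem B
-/

set_option autoImplicit false
set_option linter.unusedSectionVars false

namespace Cfsg.Agent.H532.Thr

open Subgroup

universe u

variable {N : Type u} [Group N]

/-- the data of Theorem B -/
structure DatB (p q : ℕ) (a b : MulAut N) (Y : Subgroup N) : Prop where
  bas : Bas p q a b
  inor : INor a b Y
  ne : Y ≠ ⊤
  h1 : ∀ n ∉ Y, Fxd a n ∧ Fxd b n
  h2 : ∀ n, Fxd a n ∨ Fxd b n

namespace DatB

variable {p q : ℕ} {a b : MulAut N} {Y : Subgroup N} (D : DatB p q a b Y)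

include D

theorem symm : DatB q p b a Y := ⟨D.bas.symm, D.inor.symm, D.ne, fun n hn => (D.h1 n hn).symm, fun n => (D.h2 n).symm⟩

theorem quo [Finite N] {V : Subgroup N} [V.Normal] (hV : INor a b V) (h : V ≤ Y) :
    DatB p q (Thr.quo a V hV.a) (Thr.quo b V hV.b) (Y.map (QuotientGroup.mk' V)) where
  bas := D.bas.quo hV
  inor := inor_map hV D.inor h
  ne := by
    intro h1
    apply D.ne
    rw [eq_top_iff]
    intro n _
    rw [← mem_map_mk h, h1]
    exact mem_top _
  h1 x hx := by
    obtain ⟨n, rfl⟩ := QuotientGroup.mk_surjective x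
    rw [mem_map_mk h] at hx
    exact ⟨(D.h1 n hx).1.quo _, (D.h1 n hx).2.quo _⟩
  h2 x := by
    obtain ⟨n, rfl⟩ := QuotientGroup.mk_surjective x
    exact (D.h2 n).imp (fun h => h.quo _) (fun h => h.quo _)

variable [Finite N]

theorem coma : com a ≤ Y := by
  have := D.inor.norm
  exact D.bas.copa.com_le D.inor.a fun n hn => (D.h1 n hn).1

theorem comb : com b ≤ Y := D.symm.coma

theorem exists_z : ∃ z, a z = z ∧ b z = z ∧ z ∉ Y := by
  have := D.inor.norm
  obtain ⟨n, hn⟩ : ∃ n, n ∉ Y := by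
    by_contra hcon
    push Not at hcon
    exact D.ne (eq_top_iff.2 fun n _ => hcon n)
  have hcop : Cop (a * b) (p * q) :=
    ⟨Nat.mul_pos D.bas.hp.pos D.bas.hq.pos,
      by rw [D.bas.hab.mul_pow, pow_mul, D.bas.ha, one_pow, mul_comm p q, pow_mul, D.bas.hb, one_pow, one_mul],
      Nat.Coprime.mul_left D.bas.copa.cop D.bas.copb.cop⟩
  have hinv : Inv (a * b) Y := fun x => by rw [MulAut.mul_apply, D.inor.a, D.inor.b]
  have hle : com (a * b) ≤ Y := by
    apply Thr.com_le
    intro n
    have e : (a * b) n * n⁻¹ = (a (b n) * (b n)⁻¹) * (b n * n⁻¹) := by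
      rw [MulAut.mul_apply]; group
    rw [e]
    exact mul_mem (D.coma (mem_com a _)) (D.comb (mem_com b _))
  obtain ⟨z, hz, v, hv, rfl⟩ := hcop.exists_fix_mul hinv hle n
  obtain ⟨k, hk⟩ := exists_pow_eq D.bas.hab D.bas.pq D.bas.ha D.bas.hb
  have hzk : ∀ k : ℕ, ((a * b) ^ k) z = z := by
    intro k
    induction k with
    | zero => rfl
    | succ k ih => rw [pow_succ, MulAut.mul_apply, mem_fix.1 hz, ih]
  have h1 : a z = z := by
    have := hzk k
    rwa [hk] at this
  have h2 : b z = z := by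
    have h3 := mem_fix.1 hz
    rw [MulAut.mul_apply, D.bas.comm_apply, h1] at h3
    exact h3
  exact ⟨z, h1, h2, fun h => hn (mul_mem h hv)⟩

theorem main_case (hyp : Hyp.{u}) (ha1 : a ≠ 1) (hb1 : b ≠ 1)
    (IH : ∀ V : Subgroup N, INor a b V → V ≤ Y → V ≠ ⊥ → com a ≤ V ∨ com b ≤ V)
    {V : Subgroup N} (hV : IMin a b V) (hle : com a ≤ V) (hVb : V ≤ com b) : False := by
  have B := D.bas
  have hVn := hV.inor.norm
  by_cases hna : ∃ x ∈ V, ∃ y ∈ V, x * y ≠ y * x
  · obtain ⟨v, -, h1, h2⟩ := H531.LemX.lemmaX hyp.fm B.hp B.hq B.hpq B.hpN B.hqN a b B.hab B.ha B.hb V hV.inor.a hV.inor.b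
      (fun M h1 h2 h3 => hV.min M ⟨h1, h2, h3⟩) hna
      (by
        by_contra hcon
        push Not at hcon
        exact ha1 (B.copa.eq_one (M := V) (com_le_left hle) hcon))
      (by
        by_contra hcon
        push Not at hcon
        obtain ⟨x, hx, y, hy, hxy⟩ := hna
        exact hxy (B.centralizes hVn hcon hx (hVb hy)))
    rcases D.h2 v with h | h
    · exact h1 h
    · exact h2 h
  · push Not at hna
    obtain ⟨t, ht, hexp⟩ := B.exists_exp hV hna
    have S := B.splB hV hna hle ha1 hb1 D.h2 ht hexp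
    -- the kernel
    have hK : INor a b (fix a ⊓ centralizer (V : Set N)) := by
      refine ⟨⟨?_⟩, (inv_fix fun _ => rfl).inf (inv_centralizer hV.inor.a),
        (inv_fix B.comm_apply).inf (inv_centralizer hV.inor.b)⟩
      intro k hk n
      obtain ⟨hk1, hk2⟩ := mem_inf.1 hk
      obtain ⟨c, hc, v, hv, rfl⟩ := B.copa.exists_fix_mul hV.inor.a hle n
      have e : c * v * k * (c * v)⁻¹ = c * k * c⁻¹ := by
        have : v * k = k * v := (mem_centralizer_iff.1 hk2) v hv
        have e1 : c * v * k * (c * v)⁻¹ = c * (v * k) * v⁻¹ * c⁻¹ := by group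
        rw [e1, this]; group
      rw [e]
      refine mem_inf.2 ⟨mul_mem (mul_mem hc hk1) (inv_mem hc), ?_⟩
      rw [mem_centralizer_iff]
      intro w hw
      have h1 := (mem_centralizer_iff.1 hk2) (c⁻¹ * w * c) (by
        have := hVn.conj_mem w hw c⁻¹
        rwa [inv_inv] at this)
      calc w * (c * k * c⁻¹) = c * ((c⁻¹ * w * c) * k) * c⁻¹ := by group
        _ = c * (k * (c⁻¹ * w * c)) * c⁻¹ := by rw [h1]
        _ = c * k * c⁻¹ * w := by group
    have hKY : fix a ⊓ centralizer (V : Set N) ≤ Y := by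
      intro k hk
      by_contra hkY
      obtain ⟨hk1, hk2⟩ := mem_inf.1 hk
      apply hV.ne
      rw [eq_bot_iff]
      intro v hv
      have hvk : v * k ∉ Y := fun h => hkY (by
        have := mul_mem (inv_mem (D.comb (hVb hv))) h
        rwa [inv_mul_cancel_left] at this)
      obtain ⟨u, hu, e⟩ := B.fxd_coset hV hna hle ha1 hv hk1 (D.h1 _ hvk).1
      have : u * k = k * u := (mem_centralizer_iff.1 hk2) u hu
      rw [mem_bot, e, ← this]; group
    have hKbot : fix a ⊓ centralizer (V : Set N) = ⊥ := by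
      by_contra hKne
      have hVK : V ≤ fix a ⊓ centralizer (V : Set N) := by
        rcases IH _ hK hKY hKne with h | h
        · refine le_trans ?_ h
          rcases hV.min (com a) B.inor_coma hle with h1 | h1
          · exact absurd (com_eq_bot h1) ha1
          · exact h1.ge
        · exact hVb.trans h
      apply hV.ne
      rw [eq_bot_iff]
      intro v hv
      rw [mem_bot]
      exact B.inf_fix hV hna hle ha1 hv (mem_inf.1 (hVK hv)).1
    obtain ⟨z, hz1, hz2, hzY⟩ := D.exists_z
    have hYn := D.inor.norm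
    refine blin_int S ?_ ?_ (z := z) hz1 hz2 ?_
    · intro h
      exact hyp.f5 _ q B.hq _ (B.copb.res S.Lb).pow (fun h => B.hqN (h.trans (card_subgroup_dvd_card _))) h
    · intro l hl hlv
      have : l ∈ fix a ⊓ centralizer (V : Set N) :=
        mem_inf.2 ⟨hl, mem_centralizer_iff.2 fun v hv => (hlv v hv).symm⟩
      rwa [hKbot, mem_bot] at this
    · intro g _ hg
      refine centralizer_le_of_cover (fix b) Y (fun n hn => B.copb.exists_conj_fix (D.h1 n hn).2) (z := z) hz2 hzY
        (g := g) ?_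
      have : g⁻¹ * z * g = z := by rw [mul_assoc, ← hg]; group
      rw [this]
      exact hz2

end DatB

theorem thmB (hyp : Hyp.{u}) : ∀ (n : ℕ) (N : Type u) [Group N] [Finite N] (p q : ℕ) (a b : MulAut N) (Y : Subgroup N),
    Nat.card N = n → DatB p q a b Y → a = 1 ∨ b = 1 := by
  intro n
  induction n using Nat.strong_induction_on with
  | _ n ih =>
    intro N _ _ p q a b Y hn D
    by_contra hcon
    push Not at hcon
    obtain ⟨ha1, hb1⟩ := hcon
    have B := D.bas
    have IH : ∀ V : Subgroup N, INor a b V → V ≤ Y → V ≠ ⊥ → com a ≤ V ∨ com b ≤ V := by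
      intro V hV hVY hVne
      have hVn := hV.norm
      have hlt : Nat.card (N ⧸ V) < n := by
        rw [← hn, ← V.card_mul_index, ← Subgroup.index_eq_card]
        have h1 : 1 < Nat.card V := by
          have h2 : Nat.card V ≠ 1 := fun h => hVne (Subgroup.card_eq_one.1 h)
          have h3 : 0 < Nat.card V := Nat.card_pos
          omega
        have h2 : 0 < V.index := Nat.pos_of_ne_zero Subgroup.index_ne_zero_of_finite
        nlinarith
      rcases ih _ hlt (N ⧸ V) p q (quo a V hV.a) (quo b V hV.b) _ rfl (D.quo hV hVY) with h | h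
      · exact Or.inl (com_le_of_quo _ h)
      · exact Or.inr (com_le_of_quo _ h)
    obtain ⟨V, hVle, hV⟩ := exists_imin (B.inor_coma.inf B.inor_comb) (B.inf_ne D.h2 ha1 hb1)
    rcases IH V hV.inor ((hVle.trans inf_le_left).trans D.coma) hV.ne with h | h
    · exact D.main_case hyp ha1 hb1 IH hV h (hVle.trans inf_le_right)
    · exact D.symm.main_case hyp hb1 ha1 (fun V h1 h2 h3 => (IH V h1.symm h2 h3).symm) hV.symm h (hVle.trans inf_le_left)

end Cfsg.Agent.H532.Thr
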