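import Mathlib
import Cfsg.Agent.H532.Thr.ThmC
import Cfsg.Agent.H531.TwoPrimes

/-!
# Three pairwise nonadjacent primes: reduction to Theorem C
-/

set_option autoImplicit false
set_option linter.unusedSectionVars false

namespace Cfsg.Agent.H532.Thr

open Subgroup
open scoped Pointwise

universe u

variable {G : Type u} [Group G] [Finite G]

/-- two Burnside transfers -/
theorem exists_split {p q : ℕ} [hp : Fact p.Prime] [hq : Fact q.Prime]
    (P : Sylow p G) (hP : normalizer ((P : Subgroup G) : Set G) ≤ centralizer ((P : Subgroup G) : Set G))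
    (Q : Sylow q G) (hQ : normalizer ((Q : Subgroup G) : Set G) ≤ centralizer ((Q : Subgroup G) : Set G)) :
    ∃ N H : Subgroup G, N.Normal ∧ N ⊓ H = ⊥ ∧ N ⊔ H = ⊤ ∧ (∀ x ∈ H, ∀ y ∈ H, x * y = y * x) ∧
      ¬ p ∣ Nat.card N ∧ ¬ q ∣ Nat.card N ∧ (∀ f : ℕ, f.Prime → f ∣ N.index → f = p ∨ f = q) ∧
      H.index = Nat.card N := by
  have hp1 := MonoidHom.not_dvd_card_ker_transferSylow P hP
  have hq1 := MonoidHom.not_dvd_card_ker_transferSylow Q hQ
  have hp2 := (MonoidHom.ker_transferSylow_isComplement' P hP).symm.index_eq_card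
  have hq2 := (MonoidHom.ker_transferSylow_isComplement' Q hQ).symm.index_eq_card
  obtain ⟨Kp, hKp⟩ : ∃ K, K = (MonoidHom.transferSylow P hP).ker := ⟨_, rfl⟩
  obtain ⟨Kq, hKq⟩ : ∃ K, K = (MonoidHom.transferSylow Q hQ).ker := ⟨_, rfl⟩
  have hKpn : Kp.Normal := by rw [hKp]; infer_instance
  have hKqn : Kq.Normal := by rw [hKq]; infer_instance
  rw [← hKp] at hp1 hp2
  rw [← hKq] at hq1 hq2
  have hpN : ¬ p ∣ Nat.card ↥(Kp ⊓ Kq) := fun h => hp1 (h.trans (card_dvd_of_le inf_le_left))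
  have hqN : ¬ q ∣ Nat.card ↥(Kp ⊓ Kq) := fun h => hq1 (h.trans (card_dvd_of_le inf_le_right))
  have hdvd : (Kp ⊓ Kq).index ∣ Kp.index * Kq.index := by
    rw [← Subgroup.relIndex_mul_index (inf_le_right : Kp ⊓ Kq ≤ Kq), Subgroup.inf_relIndex_right]
    exact Nat.mul_dvd_mul (Subgroup.relIndex_dvd_index_of_normal _ _) dvd_rfl
  have hf : ∀ f : ℕ, f.Prime → f ∣ (Kp ⊓ Kq).index → f = p ∨ f = q := by
    intro f hf h
    have h1 := h.trans hdvd
    rw [hp2, hq2] at h1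
    obtain ⟨i, hi⟩ := IsPGroup.iff_card.1 P.isPGroup'
    obtain ⟨j, hj⟩ := IsPGroup.iff_card.1 Q.isPGroup'
    rcases hf.dvd_mul.1 h1 with h2 | h2
    · left
      have h3 : f ∣ p ^ i := by rw [← hi]; exact h2
      exact (Nat.prime_dvd_prime_iff_eq hf hp.out).1 (hf.dvd_of_dvd_pow h3)
    · right
      have h3 : f ∣ q ^ j := by rw [← hj]; exact h2
      exact (Nat.prime_dvd_prime_iff_eq hf hq.out).1 (hf.dvd_of_dvd_pow h3)
  have hcop : (Nat.card ↥(Kp ⊓ Kq)).Coprime (Kp ⊓ Kq).index := by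
    apply Nat.coprime_of_dvd
    intro f hfp h1 h2
    rcases hf f hfp h2 with rfl | rfl
    · exact hpN h1
    · exact hqN h1
  obtain ⟨H, hH⟩ := exists_right_complement'_of_coprime hcop
  refine ⟨Kp ⊓ Kq, H, inferInstance, hH.disjoint.eq_bot, hH.sup_eq_top, ?_, hpN, hqN, hf, hH.index_eq_card⟩
  intro x hx y hy
  have h1 : x * y * x⁻¹ * y⁻¹ ∈ Kp ⊓ Kq := by
    refine mem_inf.2 ⟨?_, ?_⟩
    · rw [hKp, MonoidHom.mem_ker, map_mul, map_mul, map_mul, map_inv, map_inv]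
      have hc : ∀ a b : P, a * b = b * a := fun a b => Subtype.ext (hP (le_normalizer b.2) a a.2)
      rw [hc (MonoidHom.transferSylow P hP x)]
      group
    · rw [hKq, MonoidHom.mem_ker, map_mul, map_mul, map_mul, map_inv, map_inv]
      have hc : ∀ a b : Q, a * b = b * a := fun a b => Subtype.ext (hQ (le_normalizer b.2) a a.2)
      rw [hc (MonoidHom.transferSylow Q hQ x)]
      group
  have h2 : x * y * x⁻¹ * y⁻¹ ∈ Kp ⊓ Kq ⊓ H :=
    mem_inf.2 ⟨h1, mul_mem (mul_mem (mul_mem hx hy) (inv_mem hx)) (inv_mem hy)⟩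
  rw [hH.disjoint.eq_bot, mem_bot] at h2
  have h3 : x * y * x⁻¹ = y := mul_inv_eq_one.1 h2
  exact mul_inv_eq_iff_eq_mul.1 h3

/-- the situation -/
structure Spl (N H : Subgroup G) : Prop where
  norm : N.Normal
  sup : N ⊔ H = ⊤
  comm : ∀ x ∈ H, ∀ y ∈ H, x * y = y * x

namespace Spl

variable {N H : Subgroup G} (S : Spl N H)

include S

theorem dec (g : G) : ∃ h ∈ H, ∃ m ∈ N, g = h * m := by
  have := S.norm
  have h1 : g ∈ H ⊔ N := by rw [sup_comm, S.sup]; exact mem_top _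
  obtain ⟨h, hh, m, hm, rfl⟩ := mem_sup_of_normal_right.1 h1
  exact ⟨h, hh, m, hm, rfl⟩

theorem fxd [N.Normal] {p : ℕ} [Fact p.Prime] (P : Sylow p G) (hPH : (P : Subgroup G) ≤ H) {x : G} (hx : x ∈ P) (n : N)
    (hn : RF p (n : G)) : Fxd (MulAut.conjNormal x : MulAut N) n := by
  obtain ⟨g, hg⟩ := hn.exists_conj P
  obtain ⟨h, hh, m, hm, rfl⟩ := S.dec g
  have h1 := hg x hx
  have h2 := S.comm x (hPH hx) h hh
  have h3 : x * (m * n * m⁻¹) = m * n * m⁻¹ * x := by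
    have e1 : x * (h * m * n * (h * m)⁻¹) = x * h * (m * n * m⁻¹) * h⁻¹ := by group
    have e2 : h * m * n * (h * m)⁻¹ * x = h * ((m * n * m⁻¹) * (h⁻¹ * x)) := by group
    have e3 : h⁻¹ * x = x * h⁻¹ := by
      rw [inv_mul_eq_iff_eq_mul, ← mul_assoc, ← h2]; group
    rw [e1, e2, e3, h2] at h1
    have e4 : h * x * (m * n * m⁻¹) * h⁻¹ = h * ((x * (m * n * m⁻¹)) * h⁻¹) := by group
    rw [e4] at h1
    have h4 := mul_left_cancel h1
    have h5 : x * (m * n * m⁻¹) * h⁻¹ = m * n * m⁻¹ * x * h⁻¹ := by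
      rw [h4]; group
    exact mul_right_cancel h5
  apply fxd_of_conj_fix (g := (⟨m, hm⟩ : N))
  rw [mem_fix]
  apply Subtype.ext
  rw [MulAut.conjNormal_apply]
  show x * (m * n * m⁻¹) * x⁻¹ = m * n * m⁻¹
  rw [h3, mul_inv_cancel_right]

theorem exists_act {p : ℕ} [Fact p.Prime] (P : Sylow p G) (hPH : (P : Subgroup G) ≤ H)
    (hp : ∃ x : G, ¬ RF p x) : ∃ x ∈ P, ∃ n ∈ N, x * n ≠ n * x := by
  by_contra hcon
  push Not at hcon
  obtain ⟨g, hg⟩ := hp
  apply hg
  apply RF.of_sylow P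
  intro y hy
  obtain ⟨h, hh, m, hm, rfl⟩ := S.dec g
  rw [← mul_assoc, S.comm y (hPH hy) h hh, mul_assoc, hcon y hy m hm, mul_assoc]

end Spl

theorem conjNormal_ne_one {N : Subgroup G} [N.Normal] {x n : G} (hn : n ∈ N) (h : x * n ≠ n * x) :
    (MulAut.conjNormal x : MulAut N) ≠ 1 := by
  intro h1
  apply h
  have h2 : ((MulAut.conjNormal x : MulAut N) ⟨n, hn⟩ : G) = n := by rw [h1]; rfl
  rw [MulAut.conjNormal_apply] at h2
  exact mul_inv_eq_iff_eq_mul.1 h2

/-- an element acting with order `p` -/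
theorem exists_act_prime {N : Subgroup G} [N.Normal] {p : ℕ} [hp : Fact p.Prime] (P : Sylow p G) {x : G} (hx : x ∈ P)
    (h : (MulAut.conjNormal x : MulAut N) ≠ 1) :
    ∃ y ∈ P, (MulAut.conjNormal y : MulAut N) ≠ 1 ∧ (MulAut.conjNormal y : MulAut N) ^ p = 1 := by
  classical
  obtain ⟨k, hk⟩ := P.isPGroup' ⟨x, hx⟩
  have hk' : x ^ p ^ k = 1 := congrArg Subtype.val hk
  have hex : ∃ k : ℕ, (MulAut.conjNormal x : MulAut N) ^ p ^ k = 1 := ⟨k, by rw [← map_pow, hk', map_one]⟩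
  have hm := Nat.find_spec hex
  have hmin := fun k => Nat.find_min (m := k) hex
  obtain ⟨m, hmdef⟩ : ∃ m, m = Nat.find hex := ⟨_, rfl⟩
  rw [← hmdef] at hm hmin
  cases m with
  | zero =>
    rw [pow_zero, pow_one] at hm
    exact absurd hm h
  | succ m =>
    refine ⟨x ^ p ^ m, pow_mem hx _, ?_, ?_⟩
    · rw [map_pow]
      exact hmin m (Nat.lt_succ_self m)
    · rw [map_pow, ← pow_mul, ← pow_succ]
      exact hm

theorem commute_conjNormal {N : Subgroup G} [N.Normal] {x y : G} (h : x * y = y * x) :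
    Commute (MulAut.conjNormal x : MulAut N) (MulAut.conjNormal y : MulAut N) := by
  show (MulAut.conjNormal x : MulAut N) * MulAut.conjNormal y = MulAut.conjNormal y * MulAut.conjNormal x
  rw [← map_mul, h, map_mul]

theorem sylow_le_of_index {N : Subgroup G} [N.Normal] {r : ℕ} [Fact r.Prime] (h : ¬ r ∣ N.index) (R : Sylow r G) :
    (R : Subgroup G) ≤ N := by
  intro y hy
  obtain ⟨k, hk⟩ := R.isPGroup' ⟨y, hy⟩
  have hk' : y ^ r ^ k = 1 := congrArg Subtype.val hk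
  have h1 : ((y : G ⧸ N)) ^ r ^ k = 1 := by
    rw [← QuotientGroup.mk_pow, hk', QuotientGroup.mk_one]
  have h2 : orderOf (y : G ⧸ N) = 1 := by
    have hcop : (r ^ k).Coprime (Nat.card (G ⧸ N)) := by
      rw [← Subgroup.index_eq_card]
      exact Nat.Coprime.pow_left k ((Nat.Prime.coprime_iff_not_dvd Fact.out).2 h)
    exact Nat.eq_one_of_dvd_coprimes hcop (orderOf_dvd_of_pow_eq_one h1) (orderOf_dvd_natCard _)
  exact (QuotientGroup.eq_one_iff y).1 (orderOf_eq_one_iff.1 h2)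

theorem RF.sub {N : Subgroup G} [N.Normal] {r : ℕ} [Fact r.Prime] (h : ¬ r ∣ N.index) {n : N} (hn : RF r (n : G)) :
    RF r n := by
  obtain ⟨R, hR⟩ := hn.exists_sylow
  refine RF.of_sylow (R.subtype (sylow_le_of_index h R)) fun y hy => Subtype.ext ?_
  exact hR y (Subgroup.mem_subgroupOf.1 hy)

/-- final contradiction: `P` moves an element of the central Sylow `r`-subgroup -/
theorem final_aux {N H : Subgroup G} [hN : N.Normal] (S : Spl N H) {p q r : ℕ} [Fact p.Prime] [hq : Fact q.Prime] [Fact r.Prime]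
    (hqN : ¬ q ∣ Nat.card N) (P : Sylow p G) (hPH : (P : Subgroup G) ≤ H) (Q : Sylow q G) (hQH : (Q : Subgroup G) ≤ H)
    (h2 : ∀ x : G, RF p x ∨ RF q x) (R : Sylow r G) (hRN : (R : Subgroup G) ≤ N)
    (hRc : ∀ y ∈ R, ∀ n ∈ N, y * n = n * y) (hq1 : ∃ x : G, ¬ RF q x) {x s : G} (hx : x ∈ P) (hs : s ∈ R)
    (hxs : x * s ≠ s * x) : False := by
  have hcl : ∀ (c : MulAut N) (s : N), (s : G) ∈ R → Fxd c s → c s = s := by
    intro c s hs h
    obtain ⟨g, hg⟩ := isConj_iff.1 h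
    rw [← hg]
    apply Subtype.ext
    show (g : G) * s * (g : G)⁻¹ = s
    rw [← hRc s hs g g.2, mul_inv_cancel_right]
  have hfx : ∀ n : N, Fxd (MulAut.conjNormal x : MulAut N) n ∨ ∀ y ∈ Q, Fxd (MulAut.conjNormal y : MulAut N) n := by
    intro n
    rcases h2 n with h | h
    · exact Or.inl (S.fxd P hPH hx n h)
    · exact Or.inr fun y hy => S.fxd Q hQH hy n h
  have hsx : ¬ Fxd (MulAut.conjNormal x : MulAut N) ⟨s, hRN hs⟩ := by
    intro h
    have h1 := congrArg Subtype.val (hcl _ _ hs h)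
    rw [MulAut.conjNormal_apply] at h1
    exact hxs (mul_inv_eq_iff_eq_mul.1 h1)
  -- `Q` centralises `R`
  have hQR : ∀ y ∈ Q, ∀ s' ∈ R, y * s' = s' * y := by
    intro y hy s' hs'
    by_contra hys
    have hsy : ¬ Fxd (MulAut.conjNormal y : MulAut N) ⟨s', hRN hs'⟩ := by
      intro h
      have h1 := congrArg Subtype.val (hcl _ _ hs' h)
      rw [MulAut.conjNormal_apply] at h1
      exact hys (mul_inv_eq_iff_eq_mul.1 h1)
    have e1 : (MulAut.conjNormal x : MulAut N) ⟨s', hRN hs'⟩ = ⟨s', hRN hs'⟩ := by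
      rcases hfx ⟨s', hRN hs'⟩ with h | h
      · exact hcl _ _ hs' h
      · exact absurd (h y hy) hsy
    have e2 : (MulAut.conjNormal y : MulAut N) ⟨s, hRN hs⟩ = ⟨s, hRN hs⟩ := by
      rcases hfx ⟨s, hRN hs⟩ with h | h
      · exact absurd h hsx
      · exact hcl _ _ hs (h y hy)
    rcases hfx (⟨s, hRN hs⟩ * ⟨s', hRN hs'⟩) with h | h
    · have h1 := hcl _ _ (mul_mem hs hs') h
      rw [map_mul, e1] at h1
      apply hsx
      rw [Fxd, mul_right_cancel h1]
    · have h1 := hcl _ _ (mul_mem hs hs') (h y hy)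
      rw [map_mul, e2] at h1
      apply hsy
      rw [Fxd, mul_left_cancel h1]
  obtain ⟨y, hy, n, hn, hyn⟩ := S.exists_act Q hQH hq1
  have hb1 := conjNormal_ne_one hn hyn
  obtain ⟨a, ha⟩ : ∃ a, a = (MulAut.conjNormal x : MulAut N) := ⟨_, rfl⟩
  obtain ⟨b, hb⟩ : ∃ b, b = (MulAut.conjNormal y : MulAut N) := ⟨_, rfl⟩
  have hab : Commute a b := by
    rw [ha, hb]
    exact commute_conjNormal (S.comm x (hPH hx) y (hQH hy))
  have hbc : ∃ m, Cop b m := by
    obtain ⟨k, hk⟩ := Q.isPGroup' ⟨y, hy⟩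
    have hk' : y ^ q ^ k = 1 := congrArg Subtype.val hk
    refine ⟨q ^ k, Nat.pos_of_ne_zero (pow_ne_zero _ hq.out.ne_zero), ?_, ?_⟩
    · rw [hb, ← map_pow, hk', map_one]
    · exact Nat.Coprime.pow_left k ((Nat.Prime.coprime_iff_not_dvd hq.out).2 hqN)
  obtain ⟨m0, hbm⟩ := hbc
  -- the complement
  obtain ⟨R', hR'⟩ : ∃ R', R' = R.subtype hRN := ⟨_, rfl⟩
  have hmR' : ∀ y : N, y ∈ R' ↔ (y : G) ∈ R := by
    intro y
    rw [hR']
    exact Subgroup.mem_subgroupOf
  have hR'c : ∀ y ∈ R', ∀ n, y * n = n * y := by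
    intro y hy n
    exact Subtype.ext (hRc y ((hmR' y).1 hy) n n.2)
  have hR'n : (R' : Subgroup N).Normal := by
    constructor
    intro y hy n
    rw [← hR'c y hy n, mul_inv_cancel_right]
    exact hy
  have hR'ch := R'.characteristic_of_normal hR'n
  obtain ⟨K, hK⟩ := exists_right_complement'_of_coprime (N := (R' : Subgroup N)) R'.card_coprime_index
  have hKc : (Nat.card R').Coprime (Nat.card K) := by
    have h1 := R'.card_coprime_index
    rwa [hK.symm.index_eq_card] at h1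
  have hdecK : ∀ n : N, ∃ s ∈ R', ∃ k ∈ K, n = s * k := by
    intro n
    have h1 : n ∈ (R' : Subgroup N) ⊔ K := by rw [hK.sup_eq_top]; exact mem_top _
    obtain ⟨s, hs, k, hk, rfl⟩ := mem_sup_of_normal_left.1 h1
    exact ⟨s, hs, k, hk, rfl⟩
  have hKmem : ∀ n : N, n ^ Nat.card K = 1 → n ∈ K := by
    intro n hn
    obtain ⟨s, hs, k, hk, rfl⟩ := hdecK n
    have h1 : Commute s k := hR'c s hs k
    have h2 : k ^ Nat.card K = 1 := by
      have := pow_card_eq_one' (x := (⟨k, hk⟩ : K))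
      exact congrArg Subtype.val this
    rw [h1.mul_pow, h2, mul_one] at hn
    have h3 : s ^ Nat.card R' = 1 := by
      have := pow_card_eq_one' (x := (⟨s, hs⟩ : R'))
      exact congrArg Subtype.val this
    have h4 : s = 1 := by
      rw [← orderOf_eq_one_iff]
      exact Nat.eq_one_of_dvd_coprimes hKc (orderOf_dvd_of_pow_eq_one h3) (orderOf_dvd_of_pow_eq_one hn)
    rw [h4, one_mul]
    exact hk
  have hcom : com b ≤ K := by
    apply com_le
    intro n
    obtain ⟨s, hs, k, hk, rfl⟩ := hdecK n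
    have e1 : b s = s := by
      apply Subtype.ext
      rw [hb, MulAut.conjNormal_apply, hQR y hy s ((hmR' s).1 hs), mul_inv_cancel_right]
    have e2 : b (s * k) * (s * k)⁻¹ = s * (b k * k⁻¹) * s⁻¹ := by
      rw [map_mul, e1]; group
    rw [e2, hR'c s hs, mul_inv_cancel_right]
    refine mul_mem (hKmem _ ?_) (inv_mem hk)
    rw [← map_pow]
    have h2 : k ^ Nat.card K = 1 := by
      have := pow_card_eq_one' (x := (⟨k, hk⟩ : K))
      exact congrArg Subtype.val this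
    rw [h2, map_one]
  have hinf : (R' : Subgroup N) ⊓ com b = ⊥ := by
    rw [eq_bot_iff, ← hK.disjoint.eq_bot]
    exact inf_le_inf_left _ hcom
  rw [← hb] at hb1
  obtain ⟨m, hm, hmb⟩ := hbm.exists_moved' hb1
  have hsR' : (⟨s, hRN hs⟩ : N) ∈ (R' : Subgroup N) := (hmR' _).2 hs
  rcases hfx (⟨s, hRN hs⟩ * m) with h | h
  · rw [← ha] at h hsx
    exact hsx (h.of_mul (inv_of_char a _) (inv_com fun z => (DFunLike.congr_fun hab.eq z).symm) hinf hsR' hm).1
  · have h1 := h y hy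
    rw [← hb] at h1
    exact hmb (h1.of_mul (inv_of_char b _) (inv_com fun z => rfl) hinf hsR' hm).2

theorem final (hyp : Hyp.{u}) {p q r : ℕ} [hp : Fact p.Prime] [hq : Fact q.Prime] [hr : Fact r.Prime]
    (hpq : p ≠ q) (hqr : q ≠ r) (hpr : p ≠ r)
    (hp1 : ∃ x : G, ¬ RF p x) (hq1 : ∃ x : G, ¬ RF q x) (hr1 : ∃ x : G, ¬ RF r x)
    (hpq2 : ∀ x : G, RF p x ∨ RF q x) (hqr2 : ∀ x : G, RF q x ∨ RF r x) (hpr2 : ∀ x : G, RF p x ∨ RF r x)
    (P : Sylow p G) (hP : normalizer ((P : Subgroup G) : Set G) ≤ centralizer ((P : Subgroup G) : Set G))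
    (Q : Sylow q G) (hQ : normalizer ((Q : Subgroup G) : Set G) ≤ centralizer ((Q : Subgroup G) : Set G)) : False := by
  obtain ⟨N, H, hN, -, hsup, hcomm, hpN, hqN, hf, hHi⟩ := exists_split P hP Q hQ
  have S : Spl N H := ⟨hN, hsup, hcomm⟩
  clear hP hQ P Q
  obtain ⟨P, hPH⟩ := exists_sylow_of_index (r := p) (C := H) (by rw [hHi]; exact hpN)
  obtain ⟨Q, hQH⟩ := exists_sylow_of_index (r := q) (C := H) (by rw [hHi]; exact hqN)
  have hrN : ¬ r ∣ N.index := by
    intro h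
    rcases hf r hr.out h with h1 | h1
    · exact hpr h1.symm
    · exact hqr h1.symm
  obtain ⟨x0, hx0, n0, hn0, hxn0⟩ := S.exists_act P hPH hp1
  obtain ⟨y0, hy0, m0, hm0, hym0⟩ := S.exists_act Q hQH hq1
  obtain ⟨x, hx, hx1, hxp⟩ := exists_act_prime P hx0 (conjNormal_ne_one hn0 hxn0)
  obtain ⟨y, hy, hy1, hyq⟩ := exists_act_prime Q hy0 (conjNormal_ne_one hm0 hym0)
  have D : DatC p q r (MulAut.conjNormal x : MulAut N) (MulAut.conjNormal y : MulAut N) := by
    refine ⟨⟨hp.out, hq.out, hpq, hpN, hqN, commute_conjNormal (hcomm x (hPH hx) y (hQH hy)), hxp, hyq⟩,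
      hr.out, fun n => ?_, fun n => ?_, fun n => ?_⟩
    · exact (hpq2 n).imp (S.fxd P hPH hx n) (S.fxd Q hQH hy n)
    · exact (hpr2 n).imp (S.fxd P hPH hx n) (RF.sub hrN)
    · exact (hqr2 n).imp (S.fxd Q hQH hy n) (RF.sub hrN)
  have hrf : ∀ x : N, RF r x := by
    rcases thmC hyp _ N p q r _ _ rfl D with h | h | h
    · exact absurd h hx1
    · exact absurd h hy1
    · exact h
  let R : Sylow r G := default
  have hRN := sylow_le_of_index hrN R
  have hRc : ∀ y ∈ R, ∀ n ∈ N, y * n = n * y := by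
    intro y hy n hn
    have := central_of_rf hrf (R.subtype hRN) (y := ⟨y, hRN hy⟩) (Subgroup.mem_subgroupOf.2 hy) ⟨n, hn⟩
    exact congrArg Subtype.val this
  have hPR : ∀ x ∈ P, ∀ s ∈ R, x * s = s * x := by
    intro x hx s hs
    by_contra h
    exact final_aux S hqN P hPH Q hQH hpq2 R hRN hRc hq1 hx hs h
  have hQR : ∀ x ∈ Q, ∀ s ∈ R, x * s = s * x := by
    intro x hx s hs
    by_contra h
    exact final_aux S hpN Q hQH P hPH (fun x => (hpq2 x).symm) R hRN hRc hp1 hx hs h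
  -- `R` is central
  have hC : centralizer ((R : Subgroup G) : Set G) = ⊤ := by
    rw [← Subgroup.index_eq_one]
    by_contra h
    obtain ⟨f, hfp, hfd⟩ := Nat.exists_prime_and_dvd h
    have h1 : N ≤ centralizer ((R : Subgroup G) : Set G) := fun n hn =>
      mem_centralizer_iff.2 fun y hy => hRc y hy n hn
    rcases hf f hfp (hfd.trans (Subgroup.index_dvd_of_le h1)) with rfl | rfl
    · have h2 : (P : Subgroup G) ≤ centralizer ((R : Subgroup G) : Set G) := fun x hx =>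
        mem_centralizer_iff.2 fun s hs => (hPR x hx s hs).symm
      exact P.not_dvd_index (hfd.trans (Subgroup.index_dvd_of_le h2))
    · have h2 : (Q : Subgroup G) ≤ centralizer ((R : Subgroup G) : Set G) := fun x hx =>
        mem_centralizer_iff.2 fun s hs => (hQR x hx s hs).symm
      exact Q.not_dvd_index (hfd.trans (Subgroup.index_dvd_of_le h2))
  obtain ⟨x, hx⟩ := hr1
  apply hx
  apply RF.of_sylow R
  intro y hy
  have h1 : x ∈ centralizer ((R : Subgroup G) : Set G) := by rw [hC]; exact mem_top _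
  exact mem_centralizer_iff.1 h1 y hy

/-- the conclusion -/
theorem three (hyp : Hyp.{u}) {p q r : ℕ} [hp : Fact p.Prime] [hq : Fact q.Prime] [hr : Fact r.Prime]
    (hpq : p ≠ q) (hqr : q ≠ r) (hpr : p ≠ r)
    (hp1 : ∃ x : G, ¬ RF p x) (hq1 : ∃ x : G, ¬ RF q x) (hr1 : ∃ x : G, ¬ RF r x)
    (hpq2 : ∀ x : G, RF p x ∨ RF q x) (hqr2 : ∀ x : G, RF q x ∨ RF r x) (hpr2 : ∀ x : G, RF p x ∨ RF r x) : False := by
  let P : Sylow p G := default
  let Q : Sylow q G := default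
  let R : Sylow r G := default
  by_cases hP : normalizer ((P : Subgroup G) : Set G) ≤ centralizer ((P : Subgroup G) : Set G)
  · by_cases hQ : normalizer ((Q : Subgroup G) : Set G) ≤ centralizer ((Q : Subgroup G) : Set G)
    · exact final hyp hpq hqr hpr hp1 hq1 hr1 hpq2 hqr2 hpr2 P hP Q hQ
    · have hR := (H531.TwoPrimes.normalizer_le_or Q R hqr2).resolve_left hQ
      exact final hyp hpr hqr.symm hpq hp1 hr1 hq1 hpr2 (fun x => (hqr2 x).symm) hpq2 P hP R hR
  · have hQ := (H531.TwoPrimes.normalizer_le_or P Q hpq2).resolve_left hP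
    have hR := (H531.TwoPrimes.normalizer_le_or P R hpr2).resolve_left hP
    exact final hyp hqr hpr.symm hpq.symm hq1 hr1 hp1 hqr2 (fun x => (hpr2 x).symm) (fun x => (hpq2 x).symm) Q hQ R hR

end Cfsg.Agent.H532.Thr
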